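import Groth.Agent.H44LogMake.Make
import Groth.Agent.RelTildeX.SheafCrit
import Groth.Agent.QCoh.LocFree

/-! # The inclusion and the residues -/

universe u

open CategoryTheory CategoryTheory.Limits AlgebraicGeometry TopologicalSpace Opposite

set_option linter.style.haveILetI false
set_option backward.isDefEq.respectTransparency false

namespace Groth.Agent.H44LogMake

open Groth.Agent.AModX

variable {X S : Scheme.{u}} {f : X ⟶ S} {Ω' : X.Modules} (d : OmegaSh.Der f Ω') {r : ℕ}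
  {D : Fin r → X.IdealSheafData} {hq : Coh.IsQCoh Ω'}

theorem prod_gR_res (c : Chart D) {V V' : X.Opens} (h : V ≤ c.U.1) (h' : V' ≤ V) :
    resR h' (∏ i, gR c h i) = ∏ i, gR c (h'.trans h) i := by
  rw [map_prod]; exact Finset.prod_congr rfl fun i _ => resR_gR c h h' i

/-- A form without poles as a logarithmic form. -/
noncomputable def incFun {W : X.Opens} (ω : Γ(Ω', W)) : grp d D W :=
  ⟨fun c => (∏ i, gR c (inf_le_right : W ⊓ c.U.1 ≤ c.U.1) i) • res Ω' inf_le_left ω, fun c c' V hV hc hc' b hb => by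
    show res Ω' _ ((∏ i, gR c' (inf_le_right : W ⊓ c'.U.1 ≤ c'.U.1) i) • res Ω' inf_le_left ω) =
      _ • res Ω' _ ((∏ i, gR c (inf_le_right : W ⊓ c.U.1 ≤ c.U.1) i) • res Ω' inf_le_left ω)
    rw [res_smul, res_smul, res_res, res_res, prod_gR_res, prod_gR_res, smul_smul, ← Finset.prod_mul_distrib]
    exact congrArg (· • _) (Finset.prod_congr rfl fun i _ => hb i), fun c V hV hc => by
    refine ⟨res Ω' hV ω, 0, ?_⟩
    show res Ω' _ ((∏ i, gR c (inf_le_right : W ⊓ c.U.1 ≤ c.U.1) i) • res Ω' inf_le_left ω) = _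
    rw [res_smul, res_res, prod_gR_res, num_zero_right]⟩

variable (D hq)

/-- The inclusion of the forms without poles. -/
noncomputable def inc : Ω' ⟶ L d D hq where
  val := PresheafOfModules.homMk
    { app := fun W => AddCommGrpCat.ofHom (AddMonoidHom.mk' (fun ω : Γ(Ω', W.unop) => incFun d (D := D) ω)
        fun a b => grp_ext d fun c => by
          show (∏ i, gR c (inf_le_right : W.unop ⊓ c.U.1 ≤ c.U.1) i) • res Ω' (inf_le_left : W.unop ⊓ c.U.1 ≤ W.unop) (a + b) =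
            (∏ i, gR c (inf_le_right : W.unop ⊓ c.U.1 ≤ c.U.1) i) • res Ω' (inf_le_left : W.unop ⊓ c.U.1 ≤ W.unop) a + (∏ i, gR c (inf_le_right : W.unop ⊓ c.U.1 ≤ c.U.1) i) • res Ω' (inf_le_left : W.unop ⊓ c.U.1 ≤ W.unop) b
          rw [map_add, smul_add])
      naturality := fun W W' j => by
        ext (ω : Γ(Ω', W.unop))
        refine grp_ext d fun c => ?_
        show (∏ i, gR c (inf_le_right : W'.unop ⊓ c.U.1 ≤ c.U.1) i) • res Ω' (inf_le_left : W'.unop ⊓ c.U.1 ≤ W'.unop) (res Ω' j.unop.le ω) =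
          res Ω' (inf_le_inf_right _ j.unop.le) ((∏ i, gR c (inf_le_right : W.unop ⊓ c.U.1 ≤ c.U.1) i) • res Ω' (inf_le_left : W.unop ⊓ c.U.1 ≤ W.unop) ω)
        rw [res_smul, prod_gR_res, res_res, res_res] }
    fun W (t : Γ(X, W.unop)) (ω : Γ(Ω', W.unop)) => grp_ext d fun c => by
      show (∏ i, gR c (inf_le_right : W.unop ⊓ c.U.1 ≤ c.U.1) i) • res Ω' (inf_le_left : W.unop ⊓ c.U.1 ≤ W.unop) (t • ω) =
        resR (inf_le_left : W.unop ⊓ c.U.1 ≤ W.unop) t • ((∏ i, gR c (inf_le_right : W.unop ⊓ c.U.1 ≤ c.U.1) i) • res Ω' (inf_le_left : W.unop ⊓ c.U.1 ≤ W.unop) ω)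
      rw [res_smul, smul_comm]

variable {D hq}

theorem val_inc {W : X.Opens} (ω : Γ(Ω', W)) (c : Chart D) {V : X.Opens} (hV : V ≤ W) (hc : V ≤ c.U.1) :
    val d ((inc d D hq).app W ω) c hV hc = (∏ i, gR c hc i) • res Ω' hV ω := by
  show res Ω' _ ((∏ i, gR c (inf_le_right : W ⊓ c.U.1 ≤ c.U.1) i) • res Ω' inf_le_left ω) = _
  rw [res_smul, res_res, prod_gR_res]

theorem mono_inc (hd : OmegaSh.IsUniversal d) (hD : LogNCD.IsNCD D f) : Mono (inc d D hq) := by
  refine Preadditive.mono_of_kernel_zero <| Scheme.Modules.hom_ext _ _ fun W => ?_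
  ext s
  have hs : (inc d D hq).app W ((kernel.ι (inc d D hq)).app W s) = 0 :=
    congrArg (fun φ : kernel (inc d D hq) ⟶ L d D hq => φ.app W s) (kernel.condition _)
  refine eq_of_locally (M := Ω') _ _ fun x hx => ?_
  obtain ⟨V, g, hxV, hle, hg, hG⟩ := exists_good d D hd hD hx
  let c : Chart D := ⟨V, g, hg⟩
  have h := congrArg (fun z => val d z c hle le_rfl) hs
  simp only [val_inc, val_zero] at h
  refine ⟨V.1, hle, hxV, (hG.tf _ (ideal_gR c _) _ h).trans (map_zero _).symm⟩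

theorem res_toSub {I : X.IdealSheafData} {V V' : X.Opens} (h : V' ≤ V) (a : Γ(X, V)) :
    res (ClSub.quotMod I) h ((ClSub.toSubscheme I).app V a) = (ClSub.toSubscheme I).app V' (resR h a) :=
  (app_res _ h (show Γ(Coh.structureModule X, V) from a)).symm

/-- `t` is the residue of `s` along `D_i`. -/
def IsResV (i : Fin r) {W : X.Opens} (s : Γ(L d D hq, W)) (t : Γ(ClSub.quotMod (D i), W)) : Prop :=
  ∀ (c : Chart D) (V : X.affineOpens) (hV : V.1 ≤ W) (hc : V.1 ≤ c.U.1) (ω₁ : Γ(Ω', V.1))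
    (u : Fin r → Γ(X, V.1)), val d s c hV hc = num d (gR c hc) ω₁ u →
      res (ClSub.quotMod (D i)) hV t = (ClSub.toSubscheme (D i)).app V.1 (u i)

theorem toSub_eq_of_decomp (hd : OmegaSh.IsUniversal d) (hD : LogNCD.IsNCD D f) (i : Fin r) {W : X.Opens}
    (s : Γ(L d D hq, W)) {V V' Z : X.Opens} (c c' : Chart D) (hV : V ≤ W) (hc : V ≤ c.U.1) (hV' : V' ≤ W)
    (hc' : V' ≤ c'.U.1) (hZ : Z ≤ V) (hZ' : Z ≤ V') (ω₁ : Γ(Ω', V)) (u : Fin r → Γ(X, V)) (ω₁' : Γ(Ω', V'))
    (u' : Fin r → Γ(X, V')) (h : val d s c hV hc = num d (gR c hc) ω₁ u)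
    (h' : val d s c' hV' hc' = num d (gR c' hc') ω₁' u') :
    (ClSub.toSubscheme (D i)).app Z (resR hZ (u i)) = (ClSub.toSubscheme (D i)).app Z (resR hZ' (u' i)) := by
  refine eq_of_locally (M := ClSub.quotMod (D i)) _ _ fun x hx => ?_
  obtain ⟨T, g, hxT, hT, hg, hG⟩ := exists_good d D hd hD hx
  refine ⟨T.1, hT, hxT, ?_⟩
  rw [res_toSub, res_toSub, resR_resR, resR_resR]
  obtain ⟨b, hb⟩ := exists_ratio c c' T ((hT.trans hZ).trans hc) ((hT.trans hZ').trans hc')
  obtain ⟨a, ha⟩ := exists_ratio c' c T ((hT.trans hZ').trans hc') ((hT.trans hZ).trans hc)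
  have e := congrArg (res Ω' (hT.trans hZ)) h
  have e' := congrArg (res Ω' (hT.trans hZ')) h'
  rw [res_val, num_res] at e e'
  simp only [resR_gR] at e e'
  rw [val_ratio d s c c' _ ((hT.trans hZ).trans hc) _ b hb, e, num_move d _ (gR c' ((hT.trans hZ').trans hc')) a b hb ha,
    ← sub_eq_zero, num_sub] at e'
  have hm := hG.zero _ (ideal_gR c' _) _ _ e' i
  rw [← sub_eq_zero, ← map_sub]
  exact (H44LogNCD.toSubscheme_eq_zero_iff (D i) T _).2 hm

theorem exists_isResV (hd : OmegaSh.IsUniversal d) (hD : LogNCD.IsNCD D f) (i : Fin r) {W : X.Opens}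
    (s : Γ(L d D hq, W)) : ∃ t, IsResV d i s t := by
  choose V g hpV hle hg hG using fun p : W => exists_good d D hd hD p.2
  have hdec : ∀ p : W, IsNum d (gR (⟨V p, g p, hg p⟩ : Chart D) le_rfl)
      (val d s ⟨V p, g p, hg p⟩ (hle p) le_rfl) := fun p => isNum_val d s _ (hle p) le_rfl
  choose ω₁ u hu using hdec
  obtain ⟨t, ht, -⟩ := existsUnique_glue (M := ClSub.quotMod (D i)) (fun p => (V p).1) hle
    (fun p hp => ⟨⟨p, hp⟩, hpV _⟩) (fun p => (ClSub.toSubscheme (D i)).app (V p).1 (u p i)) fun p q => by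
      rw [res_toSub, res_toSub]
      exact toSub_eq_of_decomp d hd hD i s _ _ (hle p) le_rfl (hle q) le_rfl _ _ _ _ _ _ (hu p) (hu q)
  refine ⟨t, fun c V' hV' hc ω u' h => eq_of_locally (M := ClSub.quotMod (D i)) _ _ fun x hx => ?_⟩
  refine ⟨V'.1 ⊓ (V ⟨x, hV' hx⟩).1, inf_le_left, ⟨hx, hpV _⟩, ?_⟩
  rw [res_res, ← res_res (hle ⟨x, hV' hx⟩) inf_le_right t, ht, res_toSub, res_toSub]
  exact (toSub_eq_of_decomp d hd hD i s _ c (hle _) le_rfl hV' hc inf_le_right inf_le_left _ _ _ _ (hu _) h)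

theorem isResV_unique (i : Fin r) (hd : OmegaSh.IsUniversal d) (hD : LogNCD.IsNCD D f) {W : X.Opens}
    {s : Γ(L d D hq, W)} {t t' : Γ(ClSub.quotMod (D i), W)} (h : IsResV d i s t) (h' : IsResV d i s t') :
    t = t' := by
  refine eq_of_locally _ _ fun x hx => ?_
  obtain ⟨V, g, hxV, hle, hg, -⟩ := exists_good d D hd hD hx
  obtain ⟨ω, u, hu⟩ := isNum_val d s ⟨V, g, hg⟩ hle le_rfl
  exact ⟨V.1, hle, hxV, (h _ V hle le_rfl ω u hu).trans (h' _ V hle le_rfl ω u hu).symm⟩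

variable (hd : OmegaSh.IsUniversal d) (hD : LogNCD.IsNCD D f) (i : Fin r)

/-- The residue of a section. -/
noncomputable def resFun {W : X.Opens} (s : Γ(L d D hq, W)) : Γ(ClSub.quotMod (D i), W) :=
  (exists_isResV d hd hD i s).choose

theorem resFun_spec {W : X.Opens} (s : Γ(L d D hq, W)) : IsResV d i s (resFun d hd hD i s) :=
  (exists_isResV d hd hD i s).choose_spec

theorem resFun_eq {W : X.Opens} (s : Γ(L d D hq, W)) (t : Γ(ClSub.quotMod (D i), W))
    (h : ∀ x ∈ W, ∃ (c : Chart D) (V : X.affineOpens) (hV : V.1 ≤ W) (hc : V.1 ≤ c.U.1) (ω₁ : Γ(Ω', V.1))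
      (u : Fin r → Γ(X, V.1)), x ∈ V.1 ∧ val d s c hV hc = num d (gR c hc) ω₁ u ∧
        res (ClSub.quotMod (D i)) hV t = (ClSub.toSubscheme (D i)).app V.1 (u i)) :
    resFun d hd hD i s = t := eq_of_locally _ _ fun x hx => by
  obtain ⟨c, V, hV, hc, ω, u, hxV, hu, ht⟩ := h x hx
  exact ⟨V.1, hV, hxV, (resFun_spec d hd hD i s c V hV hc ω u hu).trans ht.symm⟩

theorem resFun_add {W : X.Opens} (s s' : Γ(L d D hq, W)) :
    resFun d hd hD i (s + s') = resFun d hd hD i s + resFun d hd hD i s' :=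
  resFun_eq d hd hD i _ _ fun x hx => by
    obtain ⟨V, g, hxV, hle, hg, -⟩ := exists_good d D hd hD hx
    obtain ⟨ω, u, hu⟩ := isNum_val d s ⟨V, g, hg⟩ hle le_rfl
    obtain ⟨ω', u', hu'⟩ := isNum_val d s' ⟨V, g, hg⟩ hle le_rfl
    refine ⟨⟨V, g, hg⟩, V, hle, le_rfl, ω + ω', u + u', hxV, by rw [val_add, hu, hu', num_add], ?_⟩
    rw [map_add, resFun_spec d hd hD i s _ V hle le_rfl ω u hu, resFun_spec d hd hD i s' _ V hle le_rfl ω' u' hu']
    exact (map_add _ _ _).symm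

theorem resFun_smul {W : X.Opens} (a : Γ(X, W)) (s : Γ(L d D hq, W)) :
    resFun d hd hD i (a • s) = a • resFun d hd hD i s :=
  resFun_eq d hd hD i _ _ fun x hx => by
    obtain ⟨V, g, hxV, hle, hg, -⟩ := exists_good d D hd hD hx
    obtain ⟨ω, u, hu⟩ := isNum_val d s ⟨V, g, hg⟩ hle le_rfl
    refine ⟨⟨V, g, hg⟩, V, hle, le_rfl, resR hle a • ω, resR hle a • u, hxV, by rw [val_smul, hu, num_smul], ?_⟩
    rw [res_smul, resFun_spec d hd hD i s _ V hle le_rfl ω u hu]
    exact (Scheme.Modules.Hom.app_smul (ClSub.toSubscheme (D i)) (resR hle a) (u i)).symm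

theorem resFun_res {W W' : X.Opens} (h : W' ≤ W) (s : Γ(L d D hq, W)) :
    resFun d hd hD i (res (L d D hq) h s) = res _ h (resFun d hd hD i s) :=
  resFun_eq d hd hD i _ _ fun x hx => by
    obtain ⟨V, g, hxV, hle, hg, -⟩ := exists_good d D hd hD hx
    obtain ⟨ω, u, hu⟩ := isNum_val d s ⟨V, g, hg⟩ (hle.trans h) le_rfl
    refine ⟨⟨V, g, hg⟩, V, hle, le_rfl, ω, u, hxV, by rw [val_res, hu], ?_⟩
    rw [res_res]
    exact resFun_spec d hd hD i s _ V _ le_rfl ω u hu

variable (hq) in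
/-- The residue along `D_i`. -/
noncomputable def resHom : L d D hq ⟶ ClSub.quotMod (D i) where
  val := PresheafOfModules.homMk
    { app := fun W => AddCommGrpCat.ofHom (AddMonoidHom.mk'
        (fun s : Γ(L d D hq, W.unop) => resFun d hd hD i s) (resFun_add d hd hD i))
      naturality := fun W W' j => by
        ext (s : Γ(L d D hq, W.unop))
        exact resFun_res d hd hD i j.unop.le s }
    fun W (t : Γ(X, W.unop)) (s : Γ(L d D hq, W.unop)) => resFun_smul d hd hD i t s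

theorem inc_resHom : inc d D hq ≫ resHom d hq hd hD i = 0 := by
  refine Scheme.Modules.hom_ext _ _ fun W => ?_
  ext ω
  refine resFun_eq d hd hD i _ 0 fun x hx => ?_
  obtain ⟨V, g, hxV, hle, hg, -⟩ := exists_good d D hd hD hx
  refine ⟨⟨V, g, hg⟩, V, hle, le_rfl, res Ω' hle ω, 0, hxV, (val_inc d ω _ hle le_rfl).trans (num_zero_right d _ _).symm, ?_⟩
  rw [map_zero]
  exact ((ClSub.toSubscheme (D i)).app V.1).hom.map_zero.symm

theorem gR_rfl (c : Chart D) : gR c (le_refl c.U.1) = c.g := funext fun _ => resR_self _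

include hd hD in
theorem smul_eq_zero_of_val {W : X.Opens} (c : Chart D) (hW : W ≤ c.U.1) (s : Γ(L d D hq, W))
    (h : (∏ i, gR c hW i) • val d s c le_rfl hW = 0) : s = 0 := by
  refine ext_chart d s 0 c hW ?_
  rw [val_zero]
  refine eq_of_locally (M := Ω') _ _ fun x hx => ?_
  obtain ⟨V, g, hxV, hle, hg, hG⟩ := exists_good d D hd hD hx
  refine ⟨V.1, hle, hxV, ?_⟩
  rw [map_zero]
  refine hG.tf (gR c (hle.trans hW)) (ideal_gR c _) _ ?_
  rw [← prod_gR_res c hW hle, ← res_smul, h, map_zero]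

/-- The logarithmic module. -/
noncomputable def logMod : LogNCD.LogMod d D where
  L := L d D (Synt29.OmegaStalk.isQCoh_of_isUniversal hd)
  ι := inc d D _
  res i := resHom d _ hd hD i
  mono := mono_inc d hd hD
  res_ι i := inc_resHom d hd hD i
  rule U g hg := by
    classical
    let c : Chart D := ⟨U, g, hg⟩
    let hq := Synt29.OmegaStalk.isQCoh_of_isUniversal hd
    have hgR : gR c (le_refl U.1) = g := gR_rfl c
    choose dl hdl using fun j : Fin r => exists_sect d (hq := hq) hd hD c 0 (Pi.single j 1)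
    have hinc : ∀ ω : Γ(Ω', U.1), val d ((inc d D hq).app U.1 ω) c le_rfl le_rfl = (∏ i, g i) • ω := fun ω => by
      rw [val_inc, hgR, res_self]
    refine ⟨fun (x : Γ(L d D hq, U.1)) hx => smul_eq_zero_of_val d hd hD c le_rfl x ?_, dl, fun i => ?_, ?_,
      fun i => ?_, fun i j hij => ?_⟩
    · have : val d ((∏ i, g i) • x) c le_rfl le_rfl = 0 :=
        (congrArg (fun z => val d z c le_rfl le_rfl) hx).trans (val_zero d c _ _)
      rw [val_smul, resR_self] at this
      rw [hgR]; exact this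
    · show g i • (dl i : Γ(L d D hq, U.1)) = (inc d D hq).app U.1 (d.app U.1 (g i))
      refine ext_chart d _ _ c le_rfl ?_
      rw [val_smul, hdl, hinc, resR_self, num_single, smul_smul, mul_pj]
    · rw [eq_top_iff]
      intro (z : Γ(L d D hq, U.1)) _
      obtain ⟨ω, u, hu⟩ := isNum_val d z c (V := U) le_rfl le_rfl
      rw [hgR] at hu
      have hz : z = (inc d D hq).app U.1 ω + ∑ j, u j • dl j := by
        refine ext_chart d _ _ c le_rfl ?_
        rw [hu, val_add, hinc, val_sum, num]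
        congr 1
        refine Finset.sum_congr rfl fun j _ => ?_
        rw [val_smul, hdl, resR_self, num_single, smul_smul]
      rw [hz]
      refine Submodule.add_mem _ (Submodule.subset_span (Or.inl ⟨ω, rfl⟩)) (Submodule.sum_mem _ fun j _ => ?_)
      exact Submodule.smul_mem _ _ (Submodule.subset_span (Or.inr ⟨j, rfl⟩))
    · show resFun d hd hD i (dl i) = _
      refine resFun_eq d hd hD i _ _ fun x hx => ⟨c, U, le_rfl, le_rfl, 0, Pi.single i 1, hx, ?_, ?_⟩
      · rw [hdl i, hgR]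
      · rw [res_self, Pi.single_eq_same]; rfl
    · show resFun d hd hD j (dl i) = 0
      refine resFun_eq d hd hD j _ _ fun x hx => ⟨c, U, le_rfl, le_rfl, 0, Pi.single i 1, hx, ?_, ?_⟩
      · rw [hdl i, hgR]
      · rw [res_self, Pi.single_eq_of_ne hij.symm]
        exact ((ClSub.toSubscheme (D j)).app U.1).hom.map_zero.symm

end Groth.Agent.H44LogMake
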