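import Groth.Agent.H44LogMake.Num

/-! # The sheaf of differentials with logarithmic poles -/

universe u

open CategoryTheory CategoryTheory.Limits AlgebraicGeometry TopologicalSpace Opposite

set_option linter.style.haveILetI false
set_option backward.isDefEq.respectTransparency false

namespace Groth.Agent.H44LogMake

open Groth.Agent.AModX

variable {X S : Scheme.{u}} {f : X ⟶ S} {Ω' : X.Modules} (d : OmegaSh.Der f Ω') {r : ℕ}
  (D : Fin r → X.IdealSheafData)

/-- An affine open with equations of all the components. -/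
structure Chart : Type u where
  /-- The open. -/
  U : X.affineOpens
  /-- The equations. -/
  g : Fin r → Γ(X, U.1)
  hg : ∀ i, (D i).ideal U = Ideal.span {g i}

variable {D}

/-- The equations on a smaller open. -/
noncomputable def gR (c : Chart D) {V : X.Opens} (h : V ≤ c.U.1) : Fin r → Γ(X, V) := fun i => resR h (c.g i)

theorem resR_gR (c : Chart D) {V V' : X.Opens} (h : V ≤ c.U.1) (h' : V' ≤ V) (i : Fin r) :
    resR h' (gR c h i) = gR c (h'.trans h) i := resR_resR _ _ _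

theorem ideal_gR (c : Chart D) {V : X.affineOpens} (h : V.1 ≤ c.U.1) (i : Fin r) :
    (D i).ideal V = Ideal.span {gR c h i} :=
  H44LogNCD.ideal_span_res (D i) h (c.hg i)

theorem exists_ratio (c c' : Chart D) (V : X.affineOpens) (h : V.1 ≤ c.U.1) (h' : V.1 ≤ c'.U.1) :
    ∃ b : Fin r → Γ(X, V.1), ∀ i, gR c' h' i = b i * gR c h i := by
  have : ∀ i, ∃ b, gR c' h' i = b * gR c h i := fun i => by
    have : gR c' h' i ∈ Ideal.span {gR c h i} := by
      rw [← ideal_gR c h i, ideal_gR c' h' i]; exact Ideal.mem_span_singleton_self _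
    obtain ⟨b, hb⟩ := Ideal.mem_span_singleton'.1 this
    exact ⟨b, hb.symm⟩
  choose b hb using this
  exact ⟨b, hb⟩

variable (Ω' D) in
/-- Families of forms on the charts. -/
abbrev Fam (W : X.Opens) : Type u := ∀ c : Chart D, Γ(Ω', W ⊓ c.U.1)

/-- The member of a family at a chart on a smaller open. -/
noncomputable def fv {W : X.Opens} (s : Fam Ω' D W) (c : Chart D) {V : X.Opens} (hV : V ≤ W) (hc : V ≤ c.U.1) :
    Γ(Ω', V) := res Ω' (le_inf hV hc) (s c)

theorem res_fv {W : X.Opens} (s : Fam Ω' D W) (c : Chart D) {V V' : X.Opens} (hV : V ≤ W) (hc : V ≤ c.U.1)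
    (h : V' ≤ V) : res Ω' h (fv s c hV hc) = fv s c (h.trans hV) (h.trans hc) := res_res _ _ _

/-- The numerators of a logarithmic form. -/
def IsLg {W : X.Opens} (s : Fam Ω' D W) : Prop :=
  (∀ (c c' : Chart D) (V : X.Opens) (hV : V ≤ W) (hc : V ≤ c.U.1) (hc' : V ≤ c'.U.1) (b : Fin r → Γ(X, V)),
    (∀ i, gR c' hc' i = b i * gR c hc i) → fv s c' hV hc' = (∏ i, b i) • fv s c hV hc) ∧
  (∀ (c : Chart D) (V : X.affineOpens) (hV : V.1 ≤ W) (hc : V.1 ≤ c.U.1),
    IsNum d (gR c hc) (fv s c hV hc))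

variable (D)

/-- Logarithmic forms on an open. -/
def grp (W : X.Opens) : AddSubgroup (Fam Ω' D W) where
  carrier := {s | IsLg d s}
  add_mem' := fun {a b} ha hb => ⟨fun c c' V hV hc hc' t ht => by
    show res Ω' _ (a c' + b c') = _ • res Ω' _ (a c + b c)
    rw [map_add, map_add, smul_add]
    exact congrArg₂ (· + ·) (ha.1 c c' V hV hc hc' t ht) (hb.1 c c' V hV hc hc' t ht), fun c V hV hc => by
    obtain ⟨x, u, hx⟩ := ha.2 c V hV hc
    obtain ⟨y, v, hy⟩ := hb.2 c V hV hc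
    refine ⟨x + y, u + v, ?_⟩
    show res Ω' _ (a c + b c) = _
    rw [map_add, ← num_add]
    exact congrArg₂ (· + ·) hx hy⟩
  zero_mem' := ⟨fun c c' V hV hc hc' t _ => by
    show res Ω' _ 0 = _ • res Ω' _ 0
    rw [map_zero, map_zero, smul_zero], fun c V hV hc => ⟨0, 0, by
    show res Ω' _ 0 = _
    rw [map_zero, num_zero]⟩⟩
  neg_mem' := fun {a} ha => ⟨fun c c' V hV hc hc' t ht => by
    show res Ω' _ (-(a c')) = _ • res Ω' _ (-(a c))
    rw [map_neg, map_neg, smul_neg]
    exact congrArg (- ·) (ha.1 c c' V hV hc hc' t ht), fun c V hV hc => by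
    obtain ⟨x, u, hx⟩ := ha.2 c V hV hc
    refine ⟨(-1 : Γ(X, V.1)) • x, (-1 : Γ(X, V.1)) • u, ?_⟩
    show res Ω' _ (-(a c)) = _
    rw [map_neg, ← num_smul, ← show res Ω' _ (a c) = _ from hx, neg_one_smul]⟩

variable {D}

theorem grp_ext {W : X.Opens} {a b : grp d D W} (h : ∀ c, a.1 c = b.1 c) : a = b :=
  Subtype.ext (funext h)

noncomputable instance instModule (W : X.Opens) : Module Γ(X, W) (grp d D W) where
  smul t a := ⟨fun c => resR (inf_le_left : W ⊓ c.U.1 ≤ W) t • a.1 c, fun c c' V hV hc hc' b hb => by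
    show res Ω' _ (_ • a.1 c') = _ • res Ω' _ (_ • a.1 c)
    rw [res_smul, res_smul, resR_resR, resR_resR, smul_comm]
    exact congrArg _ (a.2.1 c c' V hV hc hc' b hb), fun c V hV hc => by
    obtain ⟨x, u, hx⟩ := a.2.2 c V hV hc
    refine ⟨resR hV t • x, resR hV t • u, ?_⟩
    show res Ω' _ (_ • a.1 c) = _
    rw [res_smul, resR_resR, ← num_smul]
    exact congrArg _ hx⟩
  one_smul a := grp_ext d fun c => by
    show resR (inf_le_left : W ⊓ c.U.1 ≤ W) 1 • a.1 c = _
    rw [map_one, one_smul]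
  mul_smul t t' a := grp_ext d fun c => by
    show resR (inf_le_left : W ⊓ c.U.1 ≤ W) (t * t') • a.1 c = resR (inf_le_left : W ⊓ c.U.1 ≤ W) t • (resR (inf_le_left : W ⊓ c.U.1 ≤ W) t' • a.1 c)
    rw [map_mul, mul_smul]
  smul_zero t := grp_ext d fun c => by
    show resR (inf_le_left : W ⊓ c.U.1 ≤ W) t • (0 : Γ(Ω', W ⊓ c.U.1)) = 0
    rw [smul_zero]
  smul_add t a b := grp_ext d fun c => by
    show resR (inf_le_left : W ⊓ c.U.1 ≤ W) t • (a.1 c + b.1 c) = resR (inf_le_left : W ⊓ c.U.1 ≤ W) t • a.1 c + resR (inf_le_left : W ⊓ c.U.1 ≤ W) t • b.1 c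
    rw [smul_add]
  add_smul t t' a := grp_ext d fun c => by
    show resR (inf_le_left : W ⊓ c.U.1 ≤ W) (t + t') • a.1 c = resR (inf_le_left : W ⊓ c.U.1 ≤ W) t • a.1 c + resR (inf_le_left : W ⊓ c.U.1 ≤ W) t' • a.1 c
    rw [map_add, add_smul]
  zero_smul a := grp_ext d fun c => by
    show resR (inf_le_left : W ⊓ c.U.1 ≤ W) 0 • a.1 c = 0
    rw [map_zero, zero_smul]

/-- Restriction. -/
noncomputable def gres {W W' : X.Opens} (h : W' ≤ W) : grp d D W →+ grp d D W' where
  toFun a := ⟨fun c => res Ω' (inf_le_inf_right _ h) (a.1 c), fun c c' V hV hc hc' b hb => by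
    show res Ω' _ (res Ω' _ _) = _ • res Ω' _ (res Ω' _ _)
    rw [res_res, res_res]
    exact a.2.1 c c' V (hV.trans h) hc hc' b hb, fun c V hV hc => by
    show IsNum d _ (res Ω' _ (res Ω' _ _))
    rw [res_res]
    exact a.2.2 c V (hV.trans h) hc⟩
  map_zero' := grp_ext d fun c => map_zero _
  map_add' _ _ := grp_ext d fun c => map_add _ _ _

variable (D)

/-- The presheaf of logarithmic forms. -/
noncomputable def psh : (X.Opens)ᵒᵖ ⥤ Ab.{u} where
  obj W := AddCommGrpCat.of (grp d D W.unop)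
  map {W W'} i := AddCommGrpCat.ofHom (gres d i.unop.le)
  map_id W := by
    refine AddCommGrpCat.hom_ext (AddMonoidHom.ext fun a => grp_ext d fun c => ?_)
    exact res_self ((show grp d D W.unop from a).1 c)
  map_comp i j := by
    refine AddCommGrpCat.hom_ext (AddMonoidHom.ext fun a => grp_ext d fun c => ?_)
    exact (res_res _ _ ((show grp d D _ from a).1 c)).symm

noncomputable instance (W : (X.Opens)ᵒᵖ) : Module (X.ringCatSheaf.obj.obj W) ((psh d D).obj W) :=
  inferInstanceAs (Module Γ(X, W.unop) (grp d D W.unop))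

/-- Logarithmic forms as a presheaf of modules. -/
noncomputable def pmod : X.PresheafOfModules :=
  PresheafOfModules.ofPresheaf (R := X.ringCatSheaf.obj) (psh d D) fun W W' i t a =>
    grp_ext d fun c => by
      show res Ω' _ (resR _ (show Γ(X, W.unop) from t) • _) =
        resR _ (resR _ (show Γ(X, W.unop) from t)) • res Ω' _ _
      rw [res_smul, resR_resR, resR_resR]

theorem isSheaf (hq : Coh.IsQCoh Ω') : Presheaf.IsSheaf (Opens.grothendieckTopology X) (pmod d D).presheaf := by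
  refine (TopCat.Presheaf.isSheaf_iff_isSheafUniqueGluing (X := X.toPresheafedSpace.carrier)
    (psh d D)).2 fun J W sf hsf => ?_
  have hex : ∀ c : Chart D, ∃! g : Γ(Ω', iSup W ⊓ c.U.1),
      ∀ j, res Ω' (inf_le_inf_right _ (le_iSup W j)) g = (sf j).1 c := fun c => by
    refine existsUnique_glue (M := Ω') (fun j => W j ⊓ c.U.1)
      (fun j => inf_le_inf_right _ (le_iSup W j)) (fun p hp => ?_) (fun j => (sf j).1 c) fun i j => ?_
    · obtain ⟨j, hj⟩ := Opens.mem_iSup.1 hp.1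
      exact ⟨j, hj, hp.2⟩
    · have h := congrArg (fun a : grp d D (W i ⊓ W j) => a.1 c) (hsf i j)
      have h' := congrArg (res Ω' (le_inf (le_inf (inf_le_left.trans inf_le_left) (inf_le_right.trans inf_le_left))
        (inf_le_left.trans inf_le_right) : (W i ⊓ c.U.1) ⊓ (W j ⊓ c.U.1) ≤ (W i ⊓ W j) ⊓ c.U.1)) h
      change res Ω' _ (res Ω' _ _) = res Ω' _ (res Ω' _ _) at h'
      rw [res_res, res_res] at h'
      exact h'
  choose g hg huniq using hex
  have hg' : ∀ (c : Chart D) (j : J) (V : X.Opens) (hV : V ≤ iSup W) (hj : V ≤ W j) (hc : V ≤ c.U.1),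
      fv g c hV hc = fv (sf j).1 c hj hc := fun c j V hV hj hc => by
    show _ = res Ω' _ ((sf j).1 c)
    rw [← hg c j, res_res]; rfl
  refine ⟨⟨g, fun c c' V hV hc hc' b hb => ?_, fun c V hV hc => ?_⟩, fun j => grp_ext d fun c => hg c j,
    fun t' ht => grp_ext d fun c => huniq c _ fun j => congrArg (fun a : grp d D (W j) => a.1 c) (ht j)⟩
  · refine eq_of_locally (M := Ω') _ _ fun p hp => ?_
    obtain ⟨j, hj⟩ := Opens.mem_iSup.1 (hV hp)
    refine ⟨V ⊓ W j, inf_le_left, ⟨hp, hj⟩, ?_⟩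
    rw [res_smul, res_fv, res_fv, map_prod, hg' c' j _ _ inf_le_right, hg' c j _ _ inf_le_right]
    refine (sf j).2.1 c c' _ _ _ _ _ fun i => ?_
    rw [← resR_gR c' hc', hb, map_mul, resR_gR]
  · refine isNum_of_locally d hq V.2 _ _ fun p hp => ?_
    obtain ⟨j, hj⟩ := Opens.mem_iSup.1 (hV hp)
    obtain ⟨a, ha, hpa⟩ := V.2.exists_basicOpen_le ⟨p, hj⟩ hp
    refine ⟨a, hpa, ?_⟩
    rw [res_fv, hg' c j _ _ ha, show (fun i => resR (X.basicOpen_le a) (gR c hc i)) =
      gR c ((X.basicOpen_le a).trans hc) from funext (resR_gR c hc _)]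
    exact (sf j).2.2 c ⟨X.basicOpen a, V.2.basicOpen a⟩ ha _

/-- The sheaf of logarithmic forms. -/
noncomputable def L (hq : Coh.IsQCoh Ω') : X.Modules := ⟨pmod d D, isSheaf d D hq⟩

variable {D} {hq : Coh.IsQCoh Ω'}

/-- A section as a family. -/
noncomputable def fam {W : X.Opens} (s : Γ(L d D hq, W)) : grp d D W := s

/-- The numerator of a section at a chart. -/
noncomputable def val {W : X.Opens} (s : Γ(L d D hq, W)) (c : Chart D) {V : X.Opens} (hV : V ≤ W)
    (hc : V ≤ c.U.1) : Γ(Ω', V) := fv (fam d s).1 c hV hc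

theorem res_val {W : X.Opens} (s : Γ(L d D hq, W)) (c : Chart D) {V V' : X.Opens} (hV : V ≤ W) (hc : V ≤ c.U.1)
    (h : V' ≤ V) : res Ω' h (val d s c hV hc) = val d s c (h.trans hV) (h.trans hc) := res_res _ _ _

theorem val_res {W W' : X.Opens} (h : W' ≤ W) (s : Γ(L d D hq, W)) (c : Chart D) {V : X.Opens} (hV : V ≤ W')
    (hc : V ≤ c.U.1) : val d (res (L d D hq) h s) c hV hc = val d s c (hV.trans h) hc :=
  res_res (inf_le_inf_right _ h) _ _

theorem val_add {W : X.Opens} (s t : Γ(L d D hq, W)) (c : Chart D) {V : X.Opens} (hV : V ≤ W)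
    (hc : V ≤ c.U.1) : val d (s + t) c hV hc = val d s c hV hc + val d t c hV hc :=
  map_add _ _ _

theorem val_zero {W : X.Opens} (c : Chart D) {V : X.Opens} (hV : V ≤ W)
    (hc : V ≤ c.U.1) : val d (0 : Γ(L d D hq, W)) c hV hc = 0 :=
  map_zero _

theorem val_smul {W : X.Opens} (t : Γ(X, W)) (s : Γ(L d D hq, W)) (c : Chart D) {V : X.Opens} (hV : V ≤ W)
    (hc : V ≤ c.U.1) : val d (t • s) c hV hc = resR hV t • val d s c hV hc := by
  show res Ω' _ (resR (inf_le_left : W ⊓ c.U.1 ≤ W) t • (fam d s).1 c) = _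
  rw [res_smul, resR_resR]
  rfl

theorem val_sum {W : X.Opens} {α : Type*} (A : Finset α) (s : α → Γ(L d D hq, W)) (c : Chart D) {V : X.Opens}
    (hV : V ≤ W) (hc : V ≤ c.U.1) : val d (∑ a ∈ A, s a) c hV hc = ∑ a ∈ A, val d (s a) c hV hc := by
  classical
  induction A using Finset.induction_on with
  | empty => exact val_zero d c hV hc
  | insert a A ha ih => rw [Finset.sum_insert ha, Finset.sum_insert ha, val_add, ih]

theorem val_ratio {W : X.Opens} (s : Γ(L d D hq, W)) (c c' : Chart D) {V : X.Opens} (hV : V ≤ W)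
    (hc : V ≤ c.U.1) (hc' : V ≤ c'.U.1) (b : Fin r → Γ(X, V)) (hb : ∀ i, gR c' hc' i = b i * gR c hc i) :
    val d s c' hV hc' = (∏ i, b i) • val d s c hV hc := (fam d s).2.1 c c' V hV hc hc' b hb

theorem isNum_val {W : X.Opens} (s : Γ(L d D hq, W)) (c : Chart D) {V : X.affineOpens} (hV : V.1 ≤ W)
    (hc : V.1 ≤ c.U.1) : IsNum d (gR c hc) (val d s c hV hc) := (fam d s).2.2 c V hV hc

/-- A section on a chart is determined there. -/
theorem ext_chart {W : X.Opens} (s t : Γ(L d D hq, W)) (c : Chart D) (hW : W ≤ c.U.1)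
    (h : val d s c le_rfl hW = val d t c le_rfl hW) : s = t := by
  refine (show Function.Injective (fam d (D := D) (hq := hq) (W := W)) from fun _ _ e => e)
    (grp_ext d fun c' => eq_of_locally (M := Ω') _ _ fun p hp => ?_)
  obtain ⟨V, hV, hpV, hle⟩ := Opens.isBasis_iff_nbhd.mp X.isBasis_affineOpens hp
  refine ⟨V, hle, hpV, ?_⟩
  have hVW : V ≤ W := hle.trans inf_le_left
  have hVc : V ≤ c'.U.1 := hle.trans inf_le_right
  obtain ⟨b, hb⟩ := exists_ratio c c' ⟨V, hV⟩ (hVW.trans hW) hVc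
  show val d s c' hVW hVc = val d t c' hVW hVc
  rw [val_ratio d s c c' hVW (hVW.trans hW) hVc b hb, val_ratio d t c c' hVW (hVW.trans hW) hVc b hb]
  congr 1
  have := congrArg (res Ω' hVW) h
  rwa [res_val, res_val] at this

/-- The value along a ratio is independent of the ratio. -/
theorem ratio_smul_eq (hd : OmegaSh.IsUniversal d) (hD : LogNCD.IsNCD D f) {c c' : Chart D} {V : X.Opens}
    (hc : V ≤ c.U.1) (hc' : V ≤ c'.U.1) (b b' : Fin r → Γ(X, V)) (hb : ∀ i, gR c' hc' i = b i * gR c hc i)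
    (hb' : ∀ i, gR c' hc' i = b' i * gR c hc i) (ω : Γ(Ω', V)) : (∏ i, b i) • ω = (∏ i, b' i) • ω := by
  refine eq_of_locally (M := Ω') _ _ fun p hp => ?_
  obtain ⟨V', g, hp', hle, -, hG⟩ := exists_good d D hd hD hp
  refine ⟨V'.1, hle, hp', ?_⟩
  rw [res_smul, res_smul, map_prod, map_prod]
  congr 1
  refine Finset.prod_congr rfl fun i _ => hG.reg (gR c (hle.trans hc)) (ideal_gR c _) i ?_
  simp only [smul_eq_mul, ← resR_gR c hc hle, ← map_mul]
  rw [mul_comm, mul_comm _ (b' i), ← hb, ← hb']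

/-- The section with a prescribed numerator on a chart. -/
theorem exists_sect (hd : OmegaSh.IsUniversal d) (hD : LogNCD.IsNCD D f) (c : Chart D) (ω₁ : Γ(Ω', c.U.1))
    (u : Fin r → Γ(X, c.U.1)) :
    ∃ s : Γ(L d D hq, c.U.1), val d s c le_rfl le_rfl = num d c.g ω₁ u := by
  let ω := num d c.g ω₁ u
  have hex : ∀ c' : Chart D, ∃ z : Γ(Ω', c.U.1 ⊓ c'.U.1), ∀ (V : X.Opens) (h : V ≤ c.U.1 ⊓ c'.U.1)
      (b : Fin r → Γ(X, V)), (∀ i, gR c' (h.trans inf_le_right) i = b i * gR c (h.trans inf_le_left) i) →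
        res Ω' h z = (∏ i, b i) • res Ω' (h.trans inf_le_left) ω := fun c' => by
    choose V hV hpV hle using fun p : (c.U.1 ⊓ c'.U.1 : X.Opens) =>
      Opens.isBasis_iff_nbhd.mp X.isBasis_affineOpens p.2
    choose b hb using fun p : (c.U.1 ⊓ c'.U.1 : X.Opens) =>
      exists_ratio c c' ⟨V p, hV p⟩ ((hle p).trans inf_le_left) ((hle p).trans inf_le_right)
    obtain ⟨z, hz, -⟩ := existsUnique_glue (M := Ω') V hle (fun p hp => ⟨⟨p, hp⟩, hpV _⟩)
      (fun p => (∏ i, b p i) • res Ω' ((hle p).trans inf_le_left) ω) fun p q => by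
        rw [res_smul, res_smul, res_res, res_res, map_prod, map_prod]
        refine ratio_smul_eq d hd hD (c := c) (c' := c') ((inf_le_left.trans (hle p)).trans inf_le_left)
          ((inf_le_left.trans (hle p)).trans inf_le_right) _ _ (fun i => ?_) (fun i => ?_) _
        · rw [← resR_gR c' ((hle p).trans inf_le_right), hb, map_mul, resR_gR]
        · rw [← resR_gR c' ((hle q).trans inf_le_right) inf_le_right, hb, map_mul, resR_gR]
    refine ⟨z, fun V' h b' hb' => eq_of_locally (M := Ω') _ _ fun p hp => ?_⟩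
    refine ⟨V' ⊓ V ⟨p, h hp⟩, inf_le_left, ⟨hp, hpV _⟩, ?_⟩
    rw [res_res, ← res_res (hle ⟨p, h hp⟩) inf_le_right z, hz, res_smul, res_smul, res_res, res_res, map_prod,
      map_prod]
    refine ratio_smul_eq d hd hD (c := c) (c' := c') ((inf_le_left.trans h).trans inf_le_left)
      ((inf_le_left.trans h).trans inf_le_right) _ _ (fun i => ?_) (fun i => ?_) _
    · rw [← resR_gR c' ((hle _).trans inf_le_right) inf_le_right, hb, map_mul, resR_gR]
    · rw [← resR_gR c' (h.trans inf_le_right), hb', map_mul, resR_gR]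
  choose z hz using hex
  let s : Fam Ω' D c.U.1 := z
  have key : ∀ (c' : Chart D) (V : X.Opens) (hV : V ≤ c.U.1) (hc' : V ≤ c'.U.1) (b : Fin r → Γ(X, V)),
      (∀ i, gR c' hc' i = b i * gR c hV i) → fv s c' hV hc' = (∏ i, b i) • res Ω' hV ω :=
    fun c' V hV hc' b hb => hz c' V _ b hb
  refine ⟨(⟨s, fun c' c'' V hV hc' hc'' b hb => ?_, fun c' V hV hc' => ?_⟩ : grp d D c.U.1), ?_⟩
  · refine eq_of_locally (M := Ω') _ _ fun p hp => ?_
    obtain ⟨V', hV', hpV', hle⟩ := Opens.isBasis_iff_nbhd.mp X.isBasis_affineOpens hp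
    obtain ⟨a, ha⟩ := exists_ratio c c' ⟨V', hV'⟩ (hle.trans hV) (hle.trans hc')
    refine ⟨V', hle, hpV', ?_⟩
    rw [res_smul, res_fv, res_fv, key c' V' _ _ a ha, map_prod, smul_smul, ← Finset.prod_mul_distrib]
    refine key c'' V' _ _ _ fun i => ?_
    rw [← resR_gR c'' hc'' hle, hb, map_mul, resR_gR, ha, mul_assoc]
  · obtain ⟨b, hb⟩ := exists_ratio c c' V hV hc'
    obtain ⟨a, ha⟩ := exists_ratio c' c V hc' hV
    refine ⟨res Ω' hV ω₁ - ∑ j, (resR hV (u j) * a j) • d.app V.1 (b j), fun j => resR hV (u j), ?_⟩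
    rw [key c' V.1 hV hc' b hb, num_res, ← num_move d _ (gR c' hc') a b hb ha]
    rfl
  · show fv s c le_rfl le_rfl = ω
    rw [key c c.U.1 le_rfl le_rfl (fun _ => 1) (fun i => (one_mul _).symm), Finset.prod_const_one, one_smul,
      res_self]

end Groth.Agent.H44LogMake
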