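import Groth.Agent.H44LogNCD.Frame
import Groth.Agent.QCoh.Qcqs

/-! # Numerators of logarithmic forms and good affine opens -/

universe u

open CategoryTheory CategoryTheory.Limits AlgebraicGeometry TopologicalSpace Opposite

set_option linter.style.haveILetI false
set_option backward.isDefEq.respectTransparency false

namespace Groth.Agent.H44LogMake

open Groth.Agent.AModX

variable {X S : Scheme.{u}} {f : X ⟶ S} {Ω' : X.Modules} (d : OmegaSh.Der f Ω') {r : ℕ}

theorem d_res {U V : X.Opens} (h : V ≤ U) (a : Γ(X, U)) : res Ω' h (d.app U a) = d.app V (resR h a) :=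
  (d.d_map (homOfLE h).op a).symm

theorem d_mul {V : X.Opens} (a b : Γ(X, V)) : d.app V (a * b) = a • d.app V b + b • d.app V a :=
  d.d_mul (X := op V) a b

theorem d_one {V : X.Opens} : d.app V (1 : Γ(X, V)) = 0 :=
  PresheafOfModules.Derivation.d_one d (op V)

/-- The product of all equations but one. -/
noncomputable def pj {V : X.Opens} (g : Fin r → Γ(X, V)) (j : Fin r) : Γ(X, V) :=
  ∏ i ∈ Finset.univ.erase j, g i

theorem mul_pj {V : X.Opens} (g : Fin r → Γ(X, V)) (j : Fin r) : g j * pj g j = ∏ i, g i :=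
  Finset.mul_prod_erase _ g (Finset.mem_univ j)

/-- The numerator of `ω₁ + ∑ c_j dg_j/g_j` over the denominator `∏ g`. -/
noncomputable def num {V : X.Opens} (g : Fin r → Γ(X, V)) (ω₁ : Γ(Ω', V)) (c : Fin r → Γ(X, V)) : Γ(Ω', V) :=
  (∏ i, g i) • ω₁ + ∑ j, (c j * pj g j) • d.app V (g j)

/-- A form is a numerator. -/
def IsNum {V : X.Opens} (g : Fin r → Γ(X, V)) (ω : Γ(Ω', V)) : Prop := ∃ ω₁ c, ω = num d g ω₁ c

theorem num_add {V : X.Opens} (g : Fin r → Γ(X, V)) (a b : Γ(Ω', V)) (c c' : Fin r → Γ(X, V)) :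
    num d g a c + num d g b c' = num d g (a + b) (c + c') := by
  simp only [num, smul_add, Pi.add_apply, add_mul, add_smul, Finset.sum_add_distrib]
  abel

theorem num_zero {V : X.Opens} (g : Fin r → Γ(X, V)) : num d g 0 0 = 0 := by
  simp [num]

theorem num_smul {V : X.Opens} (g : Fin r → Γ(X, V)) (t : Γ(X, V)) (a : Γ(Ω', V)) (c : Fin r → Γ(X, V)) :
    t • num d g a c = num d g (t • a) (t • c) := by
  simp only [num, smul_add, Finset.smul_sum, smul_smul, Pi.smul_apply, smul_eq_mul, mul_comm t, mul_assoc]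

theorem num_sub {V : X.Opens} (g : Fin r → Γ(X, V)) (a b : Γ(Ω', V)) (c c' : Fin r → Γ(X, V)) :
    num d g a c - num d g b c' = num d g (a - b) (c - c') := by
  rw [sub_eq_iff_eq_add, num_add, sub_add_cancel, sub_add_cancel]

theorem num_res {U V : X.Opens} (h : V ≤ U) (g : Fin r → Γ(X, U)) (a : Γ(Ω', U)) (c : Fin r → Γ(X, U)) :
    res Ω' h (num d g a c) = num d (fun i => resR h (g i)) (res Ω' h a) (fun i => resR h (c i)) := by
  simp only [num, pj, map_add, map_sum, res_smul, map_mul, map_prod, d_res]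

theorem num_zero_right {V : X.Opens} (g : Fin r → Γ(X, V)) (a : Γ(Ω', V)) :
    num d g a 0 = (∏ i, g i) • a := by
  simp [num]

theorem num_single {V : X.Opens} (g : Fin r → Γ(X, V)) (j : Fin r) :
    num d g 0 (Pi.single j 1) = pj g j • d.app V (g j) := by
  rw [num, smul_zero, zero_add, Finset.sum_eq_single j (fun k _ hk => by
    rw [Pi.single_eq_of_ne hk, zero_mul, zero_smul]) (by simp), Pi.single_eq_same, one_mul]

/-- Changing the equations does not change the coefficients. -/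
theorem num_move {V : X.Opens} (g g' a b : Fin r → Γ(X, V)) (hb : ∀ i, g' i = b i * g i)
    (ha : ∀ i, g i = a i * g' i) (ω₁ : Γ(Ω', V)) (c : Fin r → Γ(X, V)) :
    (∏ i, b i) • num d g ω₁ c = num d g' (ω₁ - ∑ j, (c j * a j) • d.app V (b j)) c := by
  have hP : ∏ i, g' i = (∏ i, b i) * ∏ i, g i := by
    rw [← Finset.prod_mul_distrib]; exact Finset.prod_congr rfl fun i _ => hb i
  have hj : ∀ j, (∏ i, b i) * pj g j = b j * pj g' j := fun j => by
    rw [← mul_pj b j, pj, pj, pj, mul_assoc, ← Finset.prod_mul_distrib]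
    exact congrArg _ (Finset.prod_congr rfl fun i _ => (hb i).symm)
  simp only [num, smul_add, smul_sub, Finset.smul_sum, smul_smul]
  rw [hP, sub_add_eq_add_sub, ← add_sub_assoc', ← Finset.sum_sub_distrib]
  congr 1
  refine Finset.sum_congr rfl fun j _ => ?_
  have e1 : (∏ i, b i) * (c j * pj g j) = (c j * pj g' j) * b j := by
    rw [mul_left_comm, hj]; ring
  have e2 : (∏ i, b i) * (∏ i, g i) * (c j * a j) = (c j * pj g' j) * g j := by
    rw [← hP, ← mul_pj g' j]; conv_rhs => rw [ha j]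
    ring
  rw [e1, e2, mul_smul _ (b j), mul_smul _ (g j), ← smul_sub,
    show d.app V (g' j) = b j • d.app V (g j) + g j • d.app V (b j) by rw [← d_mul, ← hb],
    add_sub_cancel_right]

/-- Being a numerator is local on an affine open. -/
theorem isNum_of_locally (hq : Coh.IsQCoh Ω') {V : X.Opens} (hV : IsAffineOpen V) (g : Fin r → Γ(X, V))
    (ω : Γ(Ω', V))
    (h : ∀ p ∈ V, ∃ a : Γ(X, V), p ∈ X.basicOpen a ∧
      IsNum d (fun i => resR (X.basicOpen_le a) (g i)) (res Ω' (X.basicOpen_le a) ω)) :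
    IsNum d g ω := by
  classical
  let I : Ideal Γ(X, V) :=
    { carrier := {t | IsNum d g (t • ω)}
      add_mem' := fun {s t} ⟨a, c, hs⟩ ⟨b, c', ht⟩ => ⟨a + b, c + c', by rw [add_smul, hs, ht, num_add]⟩
      zero_mem' := ⟨0, 0, by rw [zero_smul, num_zero]⟩
      smul_mem' := fun s t ⟨a, c, ht⟩ => ⟨s • a, s • c, by rw [smul_eq_mul, mul_smul, ht, num_smul]⟩ }
  suffices I = ⊤ by
    obtain ⟨a, c, hac⟩ : (1 : Γ(X, V)) ∈ I := this ▸ Submodule.mem_top
    exact ⟨a, c, (one_smul _ ω).symm.trans hac⟩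
  have key : ∀ a : Γ(X, V), IsNum d (fun i => resR (X.basicOpen_le a) (g i))
      (res Ω' (X.basicOpen_le a) ω) → a ∈ I.radical := by
    rintro a ⟨ω₁, c, hc⟩
    let _ := (X.presheaf.map (homOfLE (X.basicOpen_le a)).op).hom.toAlgebra
    haveI : IsLocalization.Away a Γ(X, X.basicOpen a) := hV.isLocalization_basicOpen a
    obtain ⟨⟨_, k, rfl⟩, hk⟩ := IsLocalization.exist_integer_multiples_of_finite (Submonoid.powers a) c
    choose u hu using hk
    obtain ⟨n, t, ht⟩ := QCoh.exists_pow_smul_eq_map hq hV a ω₁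
    have hu' : ∀ i, resR (X.basicOpen_le a) (u i) = resR (X.basicOpen_le a) a ^ k * c i := fun i => by
      refine (hu i).trans ?_
      rw [Algebra.smul_def, ← map_pow]
      rfl
    have ht' : res Ω' (X.basicOpen_le a) t = resR (X.basicOpen_le a) a ^ n • ω₁ := ht
    have hz : res Ω' (X.basicOpen_le a)
        (a ^ (k + n) • ω - num d g (a ^ k • t) (fun i => a ^ n * u i)) = 0 := by
      rw [map_sub, sub_eq_zero, res_smul, hc, num_res, num_smul, res_smul, ht', map_pow, map_pow, smul_smul,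
        ← pow_add]
      congr 1
      funext i
      rw [map_mul, hu', map_pow, Pi.smul_apply, smul_eq_mul, pow_add]
      ring
    obtain ⟨m, hm⟩ := QCoh.exists_pow_smul_eq_zero hq hV a _ hz
    refine ⟨m + (k + n), a ^ m • (a ^ k • t), a ^ m • (fun i => a ^ n * u i), ?_⟩
    rw [smul_sub, sub_eq_zero] at hm
    rw [pow_add, mul_smul, hm, num_smul]
  have htop : I.radical = ⊤ := by
    choose a hpa ha using h
    have hs : Ideal.span (Set.range fun p : V => a p.1 p.2) = ⊤ := by
      rw [← hV.self_le_iSup_basicOpen_iff]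
      intro p hp
      exact Opens.mem_iSup.2 ⟨⟨_, ⟨⟨p, hp⟩, rfl⟩⟩, hpa p hp⟩
    rw [eq_top_iff, ← hs, Ideal.span_le]
    rintro _ ⟨p, rfl⟩
    exact key _ (ha p.1 p.2)
  exact Ideal.radical_eq_top.1 htop

variable (D : Fin r → X.IdealSheafData)

/-- On a good affine open the equations behave like coordinates. -/
structure Good (V : X.affineOpens) : Prop where
  reg : ∀ g : Fin r → Γ(X, V.1), (∀ i, (D i).ideal V = Ideal.span {g i}) → ∀ i, IsSMulRegular Γ(X, V.1) (g i)
  tf : ∀ g : Fin r → Γ(X, V.1), (∀ i, (D i).ideal V = Ideal.span {g i}) →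
    ∀ ω : Γ(Ω', V.1), (∏ i, g i) • ω = 0 → ω = 0
  zero : ∀ g : Fin r → Γ(X, V.1), (∀ i, (D i).ideal V = Ideal.span {g i}) →
    ∀ ω₁ c, num d g ω₁ c = 0 → ∀ i, c i ∈ (D i).ideal V

theorem good_of_one {V : X.affineOpens} {g₀ : Fin r → Γ(X, V.1)} (hg₀ : ∀ i, (D i).ideal V = Ideal.span {g₀ i})
    (hreg : ∀ i, IsSMulRegular Γ(X, V.1) (g₀ i)) (htf : ∀ ω : Γ(Ω', V.1), (∏ i, g₀ i) • ω = 0 → ω = 0)
    (hzero : ∀ ω₁ c, num d g₀ ω₁ c = 0 → ∀ i, c i ∈ Ideal.span {g₀ i}) : Good d D V := by
  have hex : ∀ g g' : Fin r → Γ(X, V.1), (∀ i, (D i).ideal V = Ideal.span {g i}) →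
      (∀ i, (D i).ideal V = Ideal.span {g' i}) → ∃ b : Fin r → Γ(X, V.1), ∀ i, g' i = b i * g i :=
    fun g g' hg hg' => by
      have : ∀ i, ∃ b, g' i = b * g i := fun i => by
        have : g' i ∈ Ideal.span {g i} := by rw [← hg i, hg' i]; exact Ideal.mem_span_singleton_self _
        obtain ⟨b, hb⟩ := Ideal.mem_span_singleton'.1 this
        exact ⟨b, hb.symm⟩
      choose b hb using this
      exact ⟨b, hb⟩
  refine ⟨fun g hg i => ?_, fun g hg ω hω => ?_, fun g hg ω₁ c hc => ?_⟩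
  · obtain ⟨a, ha⟩ := hex g g₀ hg hg₀
    refine fun x y hxy => hreg i ?_
    simp only [smul_eq_mul] at hxy ⊢
    rw [ha, mul_assoc, mul_assoc, hxy]
  · obtain ⟨a, ha⟩ := hex g g₀ hg hg₀
    refine htf ω ?_
    rw [Finset.prod_congr rfl fun i _ => ha i, Finset.prod_mul_distrib, mul_smul, hω, smul_zero]
  · obtain ⟨a, ha⟩ := hex g g₀ hg hg₀
    obtain ⟨b, hb⟩ := hex g₀ g hg₀ hg
    intro i
    rw [hg₀ i]
    refine hzero (ω₁ - ∑ j, (c j * b j) • d.app V.1 (a j)) c ?_ i
    rw [← num_move d g g₀ b a ha hb, hc, smul_zero]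

/-- Good affine opens form a basis. -/
theorem exists_good (hd : OmegaSh.IsUniversal d) (hD : LogNCD.IsNCD D f) {x : X} {W : X.Opens} (hx : x ∈ W) :
    ∃ (V : X.affineOpens) (g : Fin r → Γ(X, V.1)), x ∈ V.1 ∧ V.1 ≤ W ∧
      (∀ i, (D i).ideal V = Ideal.span {g i}) ∧ Good d D V := by
  classical
  by_cases hth : Nonempty (LogNCD.Through D x)
  · obtain ⟨W', hxW', n, v, e, he, hv, hin, hout⟩ := hD x hth
    obtain ⟨T, hT, hxT, -⟩ := Opens.isBasis_iff_nbhd.mp S.isBasis_affineOpens
      (show f x ∈ (⊤ : S.Opens) from trivial)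
    obtain ⟨U, hU, hxU, hle⟩ := Opens.isBasis_iff_nbhd.mp X.isBasis_affineOpens
      (show x ∈ W ⊓ W' ⊓ f ⁻¹ᵁ T from ⟨⟨hx, hxW'⟩, hxT⟩)
    have hW' : U ≤ W' := hle.trans (inf_le_left.trans inf_le_right)
    obtain ⟨⟨B, hB⟩, hreg⟩ := H44LogNCD.exists_basis_of_etale hv hd hU hW' hT (hle.trans inf_le_right)
    let g₀ : Fin r → Γ(X, U) := fun i => if hi : x ∈ (D i).support then
      LogNCD.sectOn W' hW' (v (ULift.up (e ⟨i, hi⟩))) else 1
    have hg₀ : ∀ i, (D i).ideal ⟨U, hU⟩ = Ideal.span {g₀ i} := fun i => by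
      by_cases hi : x ∈ (D i).support
      · simp only [g₀, dif_pos hi]; exact hin ⟨i, hi⟩ ⟨U, hU⟩ hW'
      · simp only [g₀, dif_neg hi]; rw [hout i hi ⟨U, hU⟩ hW', Ideal.span_singleton_one]
    have hgreg : ∀ i, IsSMulRegular Γ(X, U) (g₀ i) := fun i => by
      by_cases hi : x ∈ (D i).support
      · simp only [g₀, dif_pos hi]; exact hreg _
      · simp only [g₀, dif_neg hi]; exact IsSMulRegular.one _
    have hPreg : ∀ (s : Finset (Fin r)) (t : Γ(X, U)), (∏ i ∈ s, g₀ i) * t = 0 → t = 0 := fun s => by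
      induction s using Finset.induction_on with
      | empty => intro t ht; simpa using ht
      | insert i s his ih =>
        intro t ht
        rw [Finset.prod_insert his, mul_assoc] at ht
        exact ih t (hgreg i (ht.trans (mul_zero (g₀ i)).symm))
    refine ⟨⟨U, hU⟩, g₀, hxU, hle.trans (inf_le_left.trans inf_le_left), hg₀,
      good_of_one d D hg₀ hgreg (fun ω hω => ?_) fun ω₁ c hc i => ?_⟩
    · refine B.repr.injective (Finsupp.ext fun j => ?_)
      rw [map_zero, Finsupp.zero_apply]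
      refine hPreg Finset.univ _ ?_
      have := congrArg (fun z => B.repr z j) hω
      simpa only [map_smul, Finsupp.smul_apply, map_zero, Finsupp.zero_apply, smul_eq_mul, mul_zero] using this
    · by_cases hi : x ∈ (D i).support
      · have hcoef : ∀ j, B.repr (d.app U (g₀ j)) (e ⟨i, hi⟩) = if j = i then 1 else 0 := fun j => by
          by_cases hj : x ∈ (D j).support
          · simp only [g₀, dif_pos hj]
            rw [← hB, B.repr_self, Finsupp.single_apply]
            refine if_congr ?_ rfl rfl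
            rw [he.eq_iff]
            exact Subtype.ext_iff
          · simp only [g₀, dif_neg hj]
            rw [d_one, map_zero, Finsupp.zero_apply, if_neg]
            rintro rfl
            exact hj hi
        have h0 := congrArg (fun z => B.repr z (e ⟨i, hi⟩)) hc
        simp only [num, map_add, map_smul, map_sum, map_zero, Finsupp.add_apply, Finsupp.finsetSum_apply,
          Finsupp.smul_apply, Finsupp.zero_apply, smul_eq_mul, hcoef, mul_ite, mul_one, mul_zero,
          Finset.sum_ite_eq', Finset.mem_univ, if_true] at h0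
        refine Ideal.mem_span_singleton'.2 ⟨-(B.repr ω₁ (e ⟨i, hi⟩)), sub_eq_zero.1 (hPreg (Finset.univ.erase i) _ ?_)⟩
        rw [← mul_pj g₀ i] at h0
        show pj g₀ i * _ = 0
        linear_combination -h0
      · have : g₀ i = 1 := dif_neg hi
        rw [this, Ideal.span_singleton_one]
        trivial
  · have hcl : IsClosed (⋃ i, ((D i).support : Set X)) := isClosed_iUnion_of_finite fun i => (D i).support.isClosed
    have hxc : x ∈ (⋃ i, ((D i).support : Set X))ᶜ := by
      simp only [Set.mem_compl_iff, Set.mem_iUnion, not_exists]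
      exact fun i hi => hth ⟨⟨i, hi⟩⟩
    obtain ⟨U, hU, hxU, hle⟩ := Opens.isBasis_iff_nbhd.mp X.isBasis_affineOpens
      (show x ∈ W ⊓ ⟨_, hcl.isOpen_compl⟩ from ⟨hx, hxc⟩)
    have hg : ∀ i, (D i).ideal ⟨U, hU⟩ = Ideal.span {(1 : Γ(X, U))} := fun i => by
      rw [H44LogNCD.ideal_eq_top_of_disjoint _ _ fun y hy hyi => (hle hy).2 (Set.mem_iUnion.2 ⟨i, hyi⟩),
        Ideal.span_singleton_one]
    refine ⟨⟨U, hU⟩, fun _ => 1, hxU, hle.trans inf_le_left, hg, good_of_one d D hg
      (fun _ => IsSMulRegular.one _) (fun ω hω => by simpa using hω) fun ω₁ c _ i => ?_⟩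
    rw [Ideal.span_singleton_one]; trivial

end Groth.Agent.H44LogMake
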